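import Groth.Agent.InvEtale.Main

/-!
# Invariant subalgebras: etaleness from equal inertia
-/

set_option autoImplicit false
set_option backward.isDefEq.respectTransparency false
set_option backward.isDefEq.respectTransparency.types false
set_option linter.style.haveILetI false

universe u

namespace Groth.Agent.InvEtale

variable {R : Type u} [CommRing R] [IsNoetherianRing R] {A : Type u} [CommRing A] [Algebra R A]
  [Algebra.FiniteType R A] {G : Type u} [Group G] [Finite G] [MulSemiringAction G A] [SMulCommClass G R A]

omit [IsNoetherianRing R] [Algebra.FiniteType R A] [Finite G] in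
theorem smulCommClass_fixed : SMulCommClass G (FixedPoints.subalgebra R A G) A :=
  ⟨fun g b a => by
    show g • ((b : A) * a) = (b : A) * g • a
    rw [smul_mul', b.2 g]⟩

omit [IsNoetherianRing R] [Algebra.FiniteType R A] [Finite G] in
theorem isInvariant_fixed : Algebra.IsInvariant (FixedPoints.subalgebra R A G) A G :=
  ⟨fun a ha => ⟨⟨a, ha⟩, rfl⟩⟩

omit [IsNoetherianRing R] in
theorem finite_fixed : Module.Finite (FixedPoints.subalgebra R A G) A := by
  haveI := smulCommClass_fixed (R := R) (A := A) (G := G)
  haveI := isInvariant_fixed (R := R) (A := A) (G := G)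
  haveI : Algebra.IsIntegral (FixedPoints.subalgebra R A G) A := Algebra.IsInvariant.isIntegral _ A G
  haveI : Algebra.FiniteType (FixedPoints.subalgebra R A G) A := Algebra.FiniteType.of_restrictScalars_finiteType R _ A
  exact Algebra.IsIntegral.finite

theorem finiteType_fixed : Algebra.FiniteType R (FixedPoints.subalgebra R A G) := by
  haveI := finite_fixed (R := R) (A := A) (G := G)
  exact ⟨fg_of_fg_of_fg R (FixedPoints.subalgebra R A G) A Algebra.FiniteType.out Module.Finite.fg_top
    Subtype.val_injective⟩

variable {B : Type u} [CommRing B] [Algebra R B] [Algebra.FiniteType R B] [MulSemiringAction G B]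
  [SMulCommClass G R B] [Algebra B A] [IsScalarTower R B A]
  [Algebra (FixedPoints.subalgebra R B G) (FixedPoints.subalgebra R A G)]
  [IsScalarTower (FixedPoints.subalgebra R B G) (FixedPoints.subalgebra R A G) A]

omit [Algebra.FiniteType R B] [Finite G] in
theorem finitePresentation_fixed [Algebra.FiniteType R (FixedPoints.subalgebra R A G)]
    [IsNoetherianRing (FixedPoints.subalgebra R B G)] :
    Algebra.FinitePresentation (FixedPoints.subalgebra R B G) (FixedPoints.subalgebra R A G) := by
  haveI : IsScalarTower R (FixedPoints.subalgebra R B G) (FixedPoints.subalgebra R A G) :=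
    IsScalarTower.of_algebraMap_eq fun r => Subtype.val_injective <| by
      have := IsScalarTower.algebraMap_apply (FixedPoints.subalgebra R B G) (FixedPoints.subalgebra R A G) A
        (algebraMap R (FixedPoints.subalgebra R B G) r)
      refine Eq.trans ?_ this
      change algebraMap R A r = algebraMap B A (algebraMap R B r)
      exact IsScalarTower.algebraMap_apply R B A r
  haveI : Algebra.FiniteType (FixedPoints.subalgebra R B G) (FixedPoints.subalgebra R A G) :=
    Algebra.FiniteType.of_restrictScalars_finiteType R _ _
  exact Algebra.FinitePresentation.of_finiteType.1 inferInstance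

/-- `A^G` is etale over `B^G` at the image of a point with the same inertia group as its image. -/
theorem isEtaleAt_fixed (hGeq : ∀ (g : G) (b : B), algebraMap B A (g • b) = g • algebraMap B A b)
    (x : Ideal A) [x.IsPrime] (hx : Algebra.IsEtaleAt B x)
    (hin : x.inertia G = (x.comap (algebraMap B A)).inertia G) :
    Algebra.IsEtaleAt (FixedPoints.subalgebra R B G) (x.comap (algebraMap (FixedPoints.subalgebra R A G) A)) := by
  haveI := smulCommClass_fixed (R := R) (A := A) (G := G)
  haveI := isInvariant_fixed (R := R) (A := A) (G := G)
  haveI := smulCommClass_fixed (R := R) (A := B) (G := G)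
  haveI := isInvariant_fixed (R := R) (A := B) (G := G)
  haveI := finite_fixed (R := R) (A := B) (G := G)
  haveI := finiteType_fixed (R := R) (A := A) (G := G)
  haveI := finiteType_fixed (R := R) (A := B) (G := G)
  haveI : IsNoetherianRing (FixedPoints.subalgebra R B G) := Algebra.FiniteType.isNoetherianRing R _
  haveI : IsNoetherianRing B := Algebra.FiniteType.isNoetherianRing R B
  haveI : Algebra.FiniteType B A := Algebra.FiniteType.of_restrictScalars_finiteType R B A
  haveI : Algebra.FinitePresentation B A := Algebra.FinitePresentation.of_finiteType.1 inferInstance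
  haveI := finitePresentation_fixed (R := R) (A := A) (B := B) (G := G)
  haveI : SMulCommClass G (FixedPoints.subalgebra R B G) A := ⟨fun g b a => by
    rw [Algebra.smul_def, Algebra.smul_def, smul_mul']
    congr 1
    show g • algebraMap B A (b : B) = algebraMap B A (b : B)
    rw [← hGeq, b.2 g]⟩
  exact isEtaleAt_invariants G hGeq Subtype.val_injective Subtype.val_injective x hin

end Groth.Agent.InvEtale
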