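import Groth.Agent.InvQuotSp.Base
import Groth.Agent.InvQuotSp.Strict
import Groth.Agent.Hensel.LocalPiece
import Mathlib.RingTheory.Etale.Locus
import Mathlib.RingTheory.Unramified.LocalRing
import Mathlib.RingTheory.IsTensorProduct
import Mathlib.RingTheory.Localization.BaseChange
import Mathlib.RingTheory.Flat.Localization
import Mathlib.RingTheory.LocalRing.Module

/-!
# Finite algebras over strictly henselian rings: etale points
-/

set_option autoImplicit false
set_option backward.isDefEq.respectTransparency false
set_option backward.isDefEq.respectTransparency.types false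
set_option linter.style.haveILetI false
set_option linter.unusedSectionVars false

universe u

open IsLocalRing
open scoped TensorProduct

namespace Groth.Agent.InvEtale

/-- Maximal ideals of finite algebras over henselian local rings are cut out by idempotents. -/
theorem exists_idem (C : Type u) [CommRing C] [HenselianLocalRing C] (B : Type u) [CommRing B] [Algebra C B]
    [Module.Finite C B] (b : Ideal B) [b.IsMaximal] :
    ∃ e : B, IsIdempotentElem e ∧ e ∉ b ∧ ∀ n : Ideal B, n.IsMaximal → n ≠ b → e ∈ n := by
  classical
  obtain ⟨ι, _, ε, hε, hloc⟩ := Hensel.exists_pi_local C B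
  obtain ⟨i, hi⟩ : ∃ i, ε i ∉ b := by
    by_contra h
    push Not at h
    exact (Ideal.IsMaximal.ne_top ‹_›) ((Ideal.eq_top_iff_one _).2 (hε.complete ▸ Ideal.sum_mem _ fun i _ => h i))
  refine ⟨ε i, hε.idem i, hi, fun n hn hne => ?_⟩
  by_contra hni
  haveI := hloc i
  have key : ∀ m : Ideal B, m.IsMaximal → ε i ∉ m →
      m = (maximalIdeal (B ⧸ Ideal.span {1 - ε i})).comap (Ideal.Quotient.mk _) := fun m hm hmi => by
    have hle : Ideal.span {1 - ε i} ≤ m := by
      rw [Ideal.span_le, Set.singleton_subset_iff, SetLike.mem_coe]
      refine ((hm.isPrime).mem_or_mem ?_).resolve_left hmi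
      rw [mul_sub, mul_one, (hε.idem i).eq, sub_self]; exact zero_mem _
    have hmax : (m.map (Ideal.Quotient.mk (Ideal.span {1 - ε i}))).IsMaximal :=
      Ideal.IsMaximal.map_of_surjective_of_ker_le Ideal.Quotient.mk_surjective (by rwa [Ideal.mk_ker])
    rw [← eq_maximalIdeal hmax, Ideal.comap_map_of_surjective' _ Ideal.Quotient.mk_surjective, Ideal.mk_ker,
      sup_eq_left.2 hle]
  exact hne ((key n hn hni).trans (key b inferInstance hi).symm)

/-- An element killed by enough elements vanishes. -/
theorem eq_zero_of_annihilator {B : Type u} [CommRing B] (d : B)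
    (h : ∀ n : Ideal B, n.IsMaximal → ∃ t ∉ n, t * d = 0) : d = 0 := by
  let J : Ideal B :=
    { carrier := {t | t * d = 0}
      add_mem' := fun {a b} ha hb => by
        simp only [Set.mem_ofPred_eq] at ha hb ⊢
        rw [add_mul, ha, hb, add_zero]
      zero_mem' := by simp
      smul_mem' := fun c {a} ha => by
        simp only [Set.mem_ofPred_eq, smul_eq_mul] at ha ⊢
        rw [mul_assoc, ha, mul_zero] }
  by_contra hd
  obtain ⟨n, hn, hJn⟩ := Ideal.exists_le_maximal J fun hJ => hd (by
    have : (1 : B) * d = 0 := (hJ ▸ Submodule.mem_top : (1 : B) ∈ J)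
    rwa [one_mul] at this)
  obtain ⟨t, ht, htd⟩ := h n hn
  exact ht (hJn htd)

/-- An etale point over a finite algebra over a strictly henselian ring is isomorphic to its image. -/
theorem bijective_localRingHom (C : Type u) [CommRing C] [HenselianLocalRing C] [IsSepClosed (ResidueField C)]
    (B A : Type u) [CommRing B] [CommRing A] [Algebra C B] [Algebra C A] [Algebra B A] [IsScalarTower C B A]
    [Module.Finite C B] [Algebra.FiniteType C A] (b : Ideal B) [b.IsPrime] (x : Ideal A) [x.IsPrime]
    [x.LiesOver b] [x.LiesOver (maximalIdeal C)] [b.LiesOver (maximalIdeal C)]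
    [Algebra.QuasiFiniteAt C x]
    (W : Type u) [CommRing W] [Algebra B W] [Algebra A W] [IsScalarTower B A W] [Algebra.Etale B W]
    (f : A) [IsLocalization.Away f W] (hf : f ∉ x) :
    Function.Bijective (Localization.localRingHom b x (algebraMap B A) Ideal.LiesOver.over) := by
  classical
  let M := Localization.AtPrime b
  let L := Localization.AtPrime x
  letI : Algebra M L := Localization.AtPrime.algebraOfLiesOver b x
  haveI : IsScalarTower B M L := IsScalarTower.of_algebraMap_eq fun r => by
    rw [RingHom.algebraMap_toAlgebra, Localization.localRingHom_to_map, ← IsScalarTower.algebraMap_apply B A L]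
  haveI : IsLocalHom (algebraMap M L) := by
    rw [RingHom.algebraMap_toAlgebra]
    exact Localization.isLocalHom_localRingHom b x (algebraMap B A) Ideal.LiesOver.over
  haveI : IsScalarTower C B L := IsScalarTower.of_algebraMap_eq fun r => by
    rw [IsScalarTower.algebraMap_apply C A L, IsScalarTower.algebraMap_apply B A L, ← IsScalarTower.algebraMap_apply C B A]
  haveI : IsScalarTower C M L := IsScalarTower.of_algebraMap_eq fun r => by
    rw [IsScalarTower.algebraMap_apply C B L, IsScalarTower.algebraMap_apply C B M,
      ← IsScalarTower.algebraMap_apply B M L]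
  haveI : Module.Finite C L := Hensel.finite_atPrime C A x
  haveI : Module.Finite M L := Module.Finite.of_restrictScalars_finite C M L
  -- `L` is a localization of `W`
  let χ : W →ₐ[A] L := IsLocalization.liftAlgHom (M := Submonoid.powers f) (f := Algebra.ofId A L) fun y => by
    obtain ⟨n, hn⟩ := y.2
    change IsUnit (algebraMap A L y.1)
    rw [← hn, map_pow]
    exact (IsLocalization.map_units L (⟨f, hf⟩ : x.primeCompl)).pow n
  letI : Algebra W L := χ.toRingHom.toAlgebra
  haveI : IsScalarTower A W L := IsScalarTower.of_algebraMap_eq fun r => (χ.commutes r).symm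
  haveI : IsScalarTower B W L := IsScalarTower.of_algebraMap_eq fun r => by
    rw [IsScalarTower.algebraMap_apply B A W, ← IsScalarTower.algebraMap_apply A W L,
      ← IsScalarTower.algebraMap_apply B A L]
  haveI : IsLocalization (Algebra.algebraMapSubmonoid W x.primeCompl) L :=
    IsLocalization.isLocalization_of_submonoid_le W L (Submonoid.powers f) x.primeCompl
      ((Submonoid.powers_le (M := A) (P := x.primeCompl)).2 hf)
  haveI : Algebra.FormallyEtale W L := Algebra.FormallyEtale.of_isLocalization (Algebra.algebraMapSubmonoid W x.primeCompl)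
  haveI : Algebra.FormallyEtale B L := Algebra.FormallyEtale.comp B W L
  haveI : Algebra.FormallyUnramified M L := Algebra.FormallyUnramified.of_restrictScalars B M L
  haveI : Module.Flat B L := by
    haveI : Module.Flat W L := IsLocalization.flat L (Algebra.algebraMapSubmonoid W x.primeCompl)
    exact Module.Flat.trans B W L
  haveI : Module.Flat M L := (Module.flat_iff_of_isLocalization M b.primeCompl L).2 inferInstance
  -- the residue extension is trivial
  haveI : IsLocalHom (algebraMap C M) := ⟨fun r hr => by
    by_contra hn
    have hr' : r ∈ maximalIdeal C := hn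
    rw [b.over_def (maximalIdeal C), Ideal.mem_comap] at hr'
    rw [IsScalarTower.algebraMap_apply C B M] at hr
    exact ((IsLocalization.AtPrime.isUnit_to_map_iff M b _).1 hr) hr'⟩
  haveI : IsLocalHom (algebraMap C L) := ⟨fun r hr => by
    rw [IsScalarTower.algebraMap_apply C M L] at hr
    exact (isUnit_map_iff (algebraMap C M) r).1 ((isUnit_map_iff (algebraMap M L) _).1 hr)⟩
  haveI : Algebra.EssFiniteType M L := inferInstance
  have hmax := Algebra.FormallyUnramified.map_maximalIdeal (R := M) (S := L)
  haveI : Algebra.IsSeparable (ResidueField M) (ResidueField L) := inferInstance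
  haveI : IsScalarTower (ResidueField C) (ResidueField M) (ResidueField L) :=
    IsScalarTower.of_algebraMap_eq fun r => by
      obtain ⟨r, rfl⟩ := residue_surjective r
      exact congrArg (residue L) (IsScalarTower.algebraMap_apply C M L r)
  haveI : Algebra.IsAlgebraic (ResidueField C) (ResidueField L) := Algebra.IsAlgebraic.of_finite _ _
  haveI : IsPurelyInseparable (ResidueField C) (ResidueField L) :=
    Algebra.IsAlgebraic.isPurelyInseparable_of_isSepClosed
  haveI := IsPurelyInseparable.tower_top (ResidueField C) (ResidueField M) (ResidueField L)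
  have hres := IsPurelyInseparable.surjective_algebraMap_of_isSeparable (ResidueField M) (ResidueField L)
  have htop : Submodule.span M {(1 : L)} = ⊤ := by
    refine IsLocalRing.map_mkQ_eq_top.1 (eq_top_iff.2 fun z _ => ?_)
    obtain ⟨l, rfl⟩ := Submodule.mkQ_surjective _ z
    obtain ⟨μ, hμ⟩ := hres (residue L l)
    obtain ⟨μ, rfl⟩ := residue_surjective μ
    refine ⟨μ • 1, Submodule.smul_mem _ _ (Submodule.subset_span rfl), ?_⟩
    rw [Submodule.mkQ_apply, Submodule.mkQ_apply, Submodule.Quotient.eq, Ideal.smul_top_eq_map,
      Submodule.restrictScalars_mem, hmax, ← Algebra.algebraMap_eq_smul_one]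
    exact Ideal.Quotient.eq.1 hμ
  refine ⟨?_, fun l => ?_⟩
  · haveI : Module.FaithfullyFlat M L := Module.FaithfullyFlat.of_flat_of_isLocalHom
    exact FaithfulSMul.algebraMap_injective M L
  · obtain ⟨a, ha⟩ := Submodule.mem_span_singleton.1 (htop ▸ Submodule.mem_top : l ∈ Submodule.span M {(1 : L)})
    exact ⟨a, by rw [← ha, ← Algebra.algebraMap_eq_smul_one]; rfl⟩

end Groth.Agent.InvEtale
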