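import Groth.Agent.InvEtale.Local
import Groth.Agent.QuotScheme.Separable
import Groth.Agent.SymProdLib.Transfer
import Groth.Agent.EGA418Dim.EtaleAt
import Mathlib.RingTheory.Ideal.Pointwise
import Mathlib.RingTheory.Kaehler.Basic
import Mathlib.FieldTheory.IsAlgClosed.AlgebraicClosure
import Mathlib.RingTheory.RingHom.QuasiFinite

/-!
# Equivariant morphisms that preserve inertia descend to etale morphisms of the invariants

`B → A` is equivariant for a finite group, etale at a prime `x` of `A`, and the inertia groups of `x` and of its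
image agree. Then `A^G` is etale over `B^G` at the image of `x`: after base change to a strict henselization of
`B^G` the invariants of `A` are, near `x`, the base ring itself.
-/

set_option autoImplicit false
set_option backward.isDefEq.respectTransparency false
set_option backward.isDefEq.respectTransparency.types false
set_option linter.style.haveILetI false
set_option linter.unusedSectionVars false
set_option maxHeartbeats 1000000

universe u

open IsLocalRing
open scoped TensorProduct Groth.Agent.InvQuotSp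

namespace Groth.Agent.InvEtale

open Groth.Agent.InvQuotSp

variable (G : Type u) [Group G] [Finite G]

/-- Invariants commute with flat base change (relative form). -/
theorem exists_of_invariant {B₀ A₀ A : Type u} [CommRing B₀] [CommRing A₀] [CommRing A] [Algebra B₀ A₀]
    [Algebra B₀ A] [Algebra A₀ A] [IsScalarTower B₀ A₀ A] [MulSemiringAction G A] [SMulCommClass G B₀ A]
    [SMulCommClass G A₀ A] [Algebra.IsInvariant A₀ A G] (C : Type u) [CommRing C] [Algebra B₀ C] [Module.Flat B₀ C]
    (z : C ⊗[B₀] A) (hz : ∀ g : G, g • z = z) :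
    ∃ w : C ⊗[B₀] A₀, Algebra.TensorProduct.map (AlgHom.id C C) (IsScalarTower.toAlgHom B₀ A₀ A) w = z := by
  classical
  cases nonempty_fintype G
  let d : A →ₗ[B₀] (G → A) :=
    LinearMap.pi fun g => (MulSemiringAction.toAlgHom B₀ A g).toLinearMap - LinearMap.id
  have hd : Function.Exact (IsScalarTower.toAlgHom B₀ A₀ A).toLinearMap d := by
    intro a
    constructor
    · intro h
      obtain ⟨b, hb⟩ := Algebra.IsInvariant.isInvariant (A := A₀) (G := G) a fun g => sub_eq_zero.1 (congrFun h g)
      exact ⟨b, hb⟩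
    · rintro ⟨b, rfl⟩
      funext g
      exact sub_eq_zero.2 (smul_algebraMap g b)
  have hC := Module.Flat.lTensor_exact C hd
  have hpi : ∀ g, TensorProduct.piRight B₀ C C (fun _ : G => A) (LinearMap.lTensor C d z) g = g • z - z := by
    intro g
    clear hz
    induction z with
    | zero => simp
    | tmul c a => simp [d, bc_smul_def, TensorProduct.tmul_sub]
    | add x y hx hy => simp only [map_add, Pi.add_apply, smul_add, hx, hy]; abel
  obtain ⟨w, rfl⟩ := (hC z).1 <| (TensorProduct.piRight B₀ C C (fun _ : G => A)).injective <| by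
    rw [map_zero]
    funext g
    rw [hpi, hz, sub_self]
    rfl
  refine ⟨w, ?_⟩
  clear hz hpi
  induction w with
  | zero => simp
  | tmul c b => rfl
  | add x y hx hy => rw [map_add, map_add, hx, hy]

/-- A stable set of annihilators meets the invariants away from a prime. -/
theorem exists_invariant_annihilator {A : Type u} [CommRing A] [MulSemiringAction G A] (q : Ideal A) [q.IsPrime]
    (d : A) (hd : ∀ g : G, g • d = d) (t : A) (ht : t ∉ q) (htd : t * d = 0) :
    ∃ n : A, (∀ g : G, g • n = n) ∧ n ∉ q ∧ n * d = 0 := by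
  classical
  cases nonempty_fintype G
  let J : Ideal A :=
    { carrier := {t | t * d = 0}
      add_mem' := fun {a b} ha hb => by
        simp only [Set.mem_ofPred_eq] at ha hb ⊢
        rw [add_mul, ha, hb, add_zero]
      zero_mem' := by simp
      smul_mem' := fun c {a} ha => by
        simp only [Set.mem_ofPred_eq, smul_eq_mul] at ha ⊢
        rw [mul_assoc, ha, mul_zero] }
  have hJ : ∀ (g : G) {a}, a * d = 0 → (g • a) * d = 0 := fun g a ha => by
    rw [← hd g, ← smul_mul', ha, smul_zero]
  obtain ⟨s, hsJ, hs⟩ : ∃ s, s ∈ J ∧ ∀ g : G, s ∉ q.comap (MulSemiringAction.toRingHom G A g) := by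
    by_contra h
    push Not at h
    have hsub : (J : Set A) ⊆ ⋃ g ∈ (↑(Finset.univ : Finset G) : Set G),
        ((q.comap (MulSemiringAction.toRingHom G A g) : Ideal A) : Set A) := fun a ha => by
      obtain ⟨g, hg⟩ := h a ha
      exact Set.mem_biUnion (Finset.mem_coe.2 (Finset.mem_univ g)) hg
    obtain ⟨g, -, hg⟩ := (Ideal.subset_union_prime (R := A) (s := (Finset.univ : Finset G))
      (f := fun g => q.comap (MulSemiringAction.toRingHom G A g)) 1 1
      (fun g _ _ _ => Ideal.IsPrime.comap _)).1 hsub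
    refine ht ?_
    have : g⁻¹ • t ∈ q.comap (MulSemiringAction.toRingHom G A g) := hg (hJ g⁻¹ htd)
    simpa using this
  refine ⟨∏ g : G, g • s, fun h => ?_, fun h => ?_, ?_⟩
  · rw [Finset.smul_prod']
    exact Fintype.prod_equiv (Equiv.mulLeft h) _ _ fun g => (mul_smul h g s).symm
  · obtain ⟨g, -, hg⟩ := (Ideal.IsPrime.prod_mem_iff.1 h)
    exact hs g hg
  · rw [← Finset.mul_prod_erase Finset.univ _ (Finset.mem_univ (1 : G)), one_smul, mul_comm s, mul_assoc,
      show s * d = 0 from hsJ, mul_zero]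

variable {B₀ B A₀ A : Type u} [CommRing B₀] [CommRing B] [CommRing A₀] [CommRing A]
  [Algebra B₀ B] [Algebra B₀ A₀] [Algebra B₀ A] [Algebra B A] [Algebra A₀ A]
  [IsScalarTower B₀ B A] [IsScalarTower B₀ A₀ A]
  [MulSemiringAction G B] [MulSemiringAction G A] [SMulCommClass G B₀ B] [SMulCommClass G B₀ A]
  [SMulCommClass G A₀ A] [Algebra.IsInvariant B₀ B G] [Algebra.IsInvariant A₀ A G]

/-- The strictly henselian base change of the invariants retracts onto the base near the point. -/
theorem exists_retraction (hGeq : ∀ (g : G) (b : B), algebraMap B A (g • b) = g • algebraMap B A b)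
    (hB : Function.Injective (algebraMap B₀ B)) (hA : Function.Injective (algebraMap A₀ A))
    [Module.Finite B₀ B] [Algebra.FinitePresentation B A]
    {Ω : Type u} [Field Ω] [Algebra A Ω] [Algebra B₀ Ω] [IsScalarTower B₀ A Ω] (s : StrictPt B₀ Ω)
    (x : Ideal A) [x.IsPrime] (hx : ∀ a, a ∈ x ↔ algebraMap A Ω a = 0) [Algebra.IsEtaleAt B x]
    (hin : x.inertia G = (x.comap (algebraMap B A)).inertia G) :
    ∃ r : s.C ⊗[B₀] A₀ →ₐ[s.C] s.C, (∀ a, s.pt (r (1 ⊗ₜ a)) = algebraMap A Ω (algebraMap A₀ A a)) ∧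
      ∀ z, ∃ t, IsUnit (r t) ∧ t * (z - algebraMap s.C _ (r z)) = 0 := by
  classical
  cases nonempty_fintype G
  haveI : IsSepClosed (ResidueField s.C) := s.sepClosed
  let α : s.C ⊗[B₀] B →ₐ[s.C] s.C ⊗[B₀] A :=
    Algebra.TensorProduct.map (AlgHom.id s.C s.C) (IsScalarTower.toAlgHom B₀ B A)
  let ι : s.C ⊗[B₀] A₀ →ₐ[s.C] s.C ⊗[B₀] A :=
    Algebra.TensorProduct.map (AlgHom.id s.C s.C) (IsScalarTower.toAlgHom B₀ A₀ A)
  have hι : Function.Injective ι := Module.Flat.lTensor_preserves_injective_linearMap (M := s.C)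
    (IsScalarTower.toAlgHom B₀ A₀ A).toLinearMap hA
  have hιG : ∀ (g : G) w, g • ι w = ι w := fun g w => by
    induction w with
    | zero => simp
    | tmul c a => simp only [ι, Algebra.TensorProduct.map_tmul, AlgHom.id_apply, IsScalarTower.coe_toAlgHom',
        bc_smul_def, bcAct_tmul, smul_algebraMap]
    | add u v hu hv => rw [map_add, smul_add, hu, hv]
  have hαG : ∀ (g : G) β, α (g • β) = g • α β := fun g β => by
    induction β with
    | zero => simp
    | tmul c b => simp only [α, Algebra.TensorProduct.map_tmul, AlgHom.id_apply, IsScalarTower.coe_toAlgHom',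
        bc_smul_def, bcAct_tmul, hGeq]
    | add u v hu hv => rw [map_add, smul_add, smul_add, map_add, hu, hv]
  letI : Algebra s.C Ω := s.pt.toRingHom.toAlgebra
  haveI : IsScalarTower B₀ s.C Ω := IsScalarTower.of_algebraMap_eq fun r => (s.pt.commutes r).symm
  let ev : s.C ⊗[B₀] A →ₐ[s.C] Ω :=
    Algebra.TensorProduct.lift (Algebra.ofId s.C Ω) (IsScalarTower.toAlgHom B₀ A Ω) fun _ _ => .all _ _
  let evB : s.C ⊗[B₀] B →ₐ[s.C] Ω := ev.comp α
  let x' : Ideal (s.C ⊗[B₀] A) := RingHom.ker ev.toRingHom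
  let b' : Ideal (s.C ⊗[B₀] B) := RingHom.ker evB.toRingHom
  haveI : x'.IsPrime := RingHom.ker_isPrime _
  haveI : b'.IsPrime := RingHom.ker_isPrime _
  have hxC : x'.comap (algebraMap s.C (s.C ⊗[B₀] A)) = maximalIdeal s.C := Ideal.ext fun c => by
    rw [← s.ker_pt]
    exact Iff.of_eq (congrArg (· = 0) (ev.commutes c))
  have hbC : b'.comap (algebraMap s.C (s.C ⊗[B₀] B)) = maximalIdeal s.C := Ideal.ext fun c => by
    rw [← s.ker_pt]
    exact Iff.of_eq (congrArg (· = 0) (evB.commutes c))
  haveI : x'.LiesOver (maximalIdeal s.C) := ⟨hxC.symm⟩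
  haveI : b'.LiesOver (maximalIdeal s.C) := ⟨hbC.symm⟩
  haveI : b'.IsMaximal := Ideal.isMaximal_of_isIntegral_of_isMaximal_comap (R := s.C) b'
    (hbC ▸ maximalIdeal.isMaximal s.C)
  obtain ⟨e, he, heb, hen⟩ := exists_idem s.C (s.C ⊗[B₀] B) b'
  haveI := isInvariant_bc G (B := B₀) (A := B) s.C
  have hCinj := injective_bc (B := B₀) (A := B) s.C hB
  have htwist : ∀ g : G, (b'.comap (MulSemiringAction.toRingHom G (s.C ⊗[B₀] B) g)).IsMaximal := fun g =>
    Ideal.comap_isMaximal_of_surjective _ fun β => ⟨g⁻¹ • β, by simp⟩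
  let H : Subgroup G :=
    { carrier := {g | ∀ β, g • β ∈ b' ↔ β ∈ b'}
      one_mem' := fun β => by rw [one_smul]
      mul_mem' := fun {g h} hg hh β => by rw [mul_smul, hg, hh]
      inv_mem' := fun {g} hg β => by rw [← hg, smul_inv_smul] }
  have heg : ∀ g : G, g ∉ H → g • e ∈ b' := fun g hg => by
    refine hen _ (htwist g) fun h => hg fun β => ?_
    rw [← SetLike.ext_iff.1 h β]
    rfl
  -- elements of `H` fix the point
  have hH : ∀ g ∈ H, ∀ z, ev (g • z) = ev z := fun g hg => by
    let evg : s.C ⊗[B₀] B →ₐ[s.C] Ω := evB.comp (MulSemiringAction.toAlgHom s.C (s.C ⊗[B₀] B) g)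
    have hev : evg = evB := point_eq_of_ker_eq (A := s.C ⊗[B₀] B) s.ker_pt evg evB (Ideal.ext fun β => hg β)
    have hgx : g ∈ x.inertia G := by
      rw [hin]
      intro b
      show g • b - b ∈ x.comap (algebraMap B A)
      have := AlgHom.congr_fun hev (1 ⊗ₜ b)
      simp only [evg, evB, α, ev, AlgHom.comp_apply, MulSemiringAction.toAlgHom_apply, bc_smul_def, bcAct_tmul,
        Algebra.TensorProduct.map_tmul, Algebra.TensorProduct.lift_tmul, AlgHom.id_apply, map_one, one_mul,
        IsScalarTower.coe_toAlgHom'] at this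
      rw [Ideal.mem_comap, hx, map_sub, map_sub, this, sub_self]
    intro z
    induction z with
    | zero => simp
    | tmul c a =>
      simp only [ev, bc_smul_def, bcAct_tmul, Algebra.TensorProduct.lift_tmul, IsScalarTower.coe_toAlgHom']
      rw [sub_eq_zero.1 ((map_sub (algebraMap A Ω) _ _).symm.trans ((hx _).1 (hgx a)))]
    | add u v hu hv => rw [smul_add, map_add, map_add, hu, hv]
  have hgx' : ∀ g ∈ H, ∀ z, z ∉ x' → g • z ∉ x' := fun g hg z hz h => hz ((hH g hg z).symm.trans h)
  -- the local isomorphism at the point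
  letI : Algebra (s.C ⊗[B₀] B) (s.C ⊗[B₀] A) := α.toRingHom.toAlgebra
  haveI : IsScalarTower s.C (s.C ⊗[B₀] B) (s.C ⊗[B₀] A) := IsScalarTower.of_algebraMap_eq fun c => (α.commutes c).symm
  haveI : x'.LiesOver b' := ⟨rfl⟩
  obtain ⟨f, hf, hW⟩ := Algebra.exists_etale_of_isEtaleAt (R := B) x
  let Af := Localization.Away f
  let α' : s.C ⊗[B₀] A →ₐ[s.C] s.C ⊗[B₀] Af :=
    Algebra.TensorProduct.map (AlgHom.id s.C s.C) (IsScalarTower.toAlgHom B₀ A Af)
  letI : Algebra (s.C ⊗[B₀] A) (s.C ⊗[B₀] Af) := α'.toRingHom.toAlgebra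
  haveI : IsScalarTower s.C (s.C ⊗[B₀] A) (s.C ⊗[B₀] Af) :=
    IsScalarTower.of_algebraMap_eq fun c => (α'.commutes c).symm
  have hf' : (1 : s.C) ⊗ₜ[B₀] f ∉ x' := fun h => hf <| (hx f).2 <| by
    have h' : ev (1 ⊗ₜ f) = 0 := h
    simpa [ev] using h'
  haveI : IsLocalization.Away ((1 : s.C) ⊗ₜ[B₀] f) (s.C ⊗[B₀] Af) := by
    have := IsLocalization.tensorProduct_tensorProduct_right (R := B₀) (S := s.C) (Submonoid.powers f) Af
      (RingHom.ext fun a => by
        change α' (1 ⊗ₜ a) = _
        simp [α'])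
    rwa [Submonoid.map_powers] at this
  letI : Algebra (s.C ⊗[B₀] B) (s.C ⊗[B₀] Af) := (α'.comp α).toRingHom.toAlgebra
  haveI : IsScalarTower (s.C ⊗[B₀] B) (s.C ⊗[B₀] A) (s.C ⊗[B₀] Af) := IsScalarTower.of_algebraMap_eq fun _ => rfl
  haveI : Algebra.Etale (s.C ⊗[B₀] B) (s.C ⊗[B₀] Af) := by
    letI : Algebra B (s.C ⊗[B₀] B) := Algebra.TensorProduct.rightAlgebra
    letI : Algebra Af (s.C ⊗[B₀] Af) := Algebra.TensorProduct.rightAlgebra
    letI : Algebra B (s.C ⊗[B₀] Af) :=
      ((algebraMap Af (s.C ⊗[B₀] Af)).comp (algebraMap B Af)).toAlgebra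
    haveI : IsScalarTower B Af (s.C ⊗[B₀] Af) := IsScalarTower.of_algebraMap_eq fun _ => rfl
    haveI : IsScalarTower B₀ B (s.C ⊗[B₀] Af) := IsScalarTower.of_algebraMap_eq fun r => by
      change _ = algebraMap Af (s.C ⊗[B₀] Af) (algebraMap B Af (algebraMap B₀ B r))
      rw [← IsScalarTower.algebraMap_apply B₀ B Af, ← IsScalarTower.algebraMap_apply B₀ Af (s.C ⊗[B₀] Af)]
    haveI : IsScalarTower B (s.C ⊗[B₀] B) (s.C ⊗[B₀] Af) := IsScalarTower.of_algebraMap_eq fun b => by
      change (1 : s.C) ⊗ₜ[B₀] algebraMap B Af b = α' (α ((1 : s.C) ⊗ₜ b))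
      simp only [α, α', Algebra.TensorProduct.map_tmul, AlgHom.id_apply, IsScalarTower.coe_toAlgHom',
        ← IsScalarTower.algebraMap_apply B A Af]
    haveI : IsScalarTower s.C (s.C ⊗[B₀] B) (s.C ⊗[B₀] Af) := IsScalarTower.of_algebraMap_eq fun c => by
      change _ = (α'.comp α) (algebraMap s.C (s.C ⊗[B₀] B) c)
      rw [AlgHom.commutes]
    haveI : IsScalarTower B₀ (s.C ⊗[B₀] B) (s.C ⊗[B₀] Af) := IsScalarTower.of_algebraMap_eq fun r => by
      rw [IsScalarTower.algebraMap_apply B₀ s.C (s.C ⊗[B₀] Af), IsScalarTower.algebraMap_apply B₀ s.C (s.C ⊗[B₀] B),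
        ← IsScalarTower.algebraMap_apply s.C (s.C ⊗[B₀] B) (s.C ⊗[B₀] Af)]
    haveI h1 : Algebra.IsPushout B₀ Af s.C (s.C ⊗[B₀] Af) := inferInstance
    haveI : Algebra.IsPushout B₀ B s.C (s.C ⊗[B₀] B) := inferInstance
    haveI : Algebra.IsPushout B Af (s.C ⊗[B₀] B) (s.C ⊗[B₀] Af) :=
      (Algebra.IsPushout.comp_iff B₀ B s.C (s.C ⊗[B₀] B)).1 h1
    haveI : Algebra.IsPushout B (s.C ⊗[B₀] B) Af (s.C ⊗[B₀] Af) := Algebra.IsPushout.symm inferInstance
    exact Algebra.Etale.of_equiv (Algebra.IsPushout.equiv B (s.C ⊗[B₀] B) Af (s.C ⊗[B₀] Af))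
  haveI : Algebra.QuasiFiniteAt s.C x' := by
    haveI : Algebra.QuasiFiniteAt B₀ x := by
      haveI : Algebra.FinitePresentation B Af := inferInstance
      haveI : Algebra.QuasiFinite B Af :=
        ⟨fun P _ => Algebra.FormallyUnramified.finite_of_free P.ResidueField _⟩
      haveI : Algebra.QuasiFinite B₀ Af := Algebra.QuasiFinite.trans B₀ B Af
      let χ : Af →ₐ[A] Localization.AtPrime x :=
        IsLocalization.liftAlgHom (M := Submonoid.powers f) (f := Algebra.ofId A _) fun y => by
          obtain ⟨n, hn⟩ := y.2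
          change IsUnit (algebraMap A (Localization.AtPrime x) y.1)
          rw [← hn, map_pow]
          exact (IsLocalization.map_units (Localization.AtPrime x) (⟨f, hf⟩ : x.primeCompl)).pow n
      refine Algebra.QuasiFinite.of_forall_exists_mul_mem_range (χ.restrictScalars B₀) fun z => ?_
      obtain ⟨a, t, rfl⟩ := IsLocalization.exists_mk'_eq x.primeCompl z
      refine ⟨algebraMap A Af t.1, ?_, algebraMap A Af a, ?_⟩
      · change IsUnit (χ _)
        rw [AlgHom.commutes]
        exact IsLocalization.map_units _ t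
      · change χ _ = _ * χ _
        rw [AlgHom.commutes, AlgHom.commutes, IsLocalization.mk'_spec]
    exact Algebra.QuasiFiniteAt.baseChange x x' (Ideal.ext fun a => by
      rw [hx]
      simp [x', ev])
  haveI : Algebra.FiniteType s.C (s.C ⊗[B₀] A) := by
    haveI : Algebra.FiniteType B₀ A := Algebra.FiniteType.trans (S := B) inferInstance inferInstance
    infer_instance
  have hbij := bijective_localRingHom s.C (s.C ⊗[B₀] B) (s.C ⊗[B₀] A) b' x' (s.C ⊗[B₀] Af) _ hf'
  -- consequences
  have hlocmap : ∀ β, Localization.localRingHom b' x' α.toRingHom rfl (algebraMap _ _ β) =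
      algebraMap (s.C ⊗[B₀] A) (Localization.AtPrime x') (α β) := fun β => Localization.localRingHom_to_map _ _ _ _ _
  have hdown : ∀ β t, t ∉ x' → t * α β = 0 → ∃ u ∉ b', u * β = 0 := fun β t ht h => by
    have h0 : algebraMap (s.C ⊗[B₀] A) (Localization.AtPrime x') (α β) = 0 :=
      (IsLocalization.map_eq_zero_iff x'.primeCompl _ _).2 ⟨⟨t, ht⟩, h⟩
    rw [← hlocmap] at h0
    have h1 : algebraMap (s.C ⊗[B₀] B) (Localization.AtPrime b') β = 0 := hbij.1 (h0.trans (map_zero _).symm)
    obtain ⟨u, hu⟩ := (IsLocalization.map_eq_zero_iff b'.primeCompl _ _).1 h1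
    exact ⟨u.1, u.2, hu⟩
  let rel : s.C ⊗[B₀] A₀ → s.C → Prop := fun w c =>
    ∃ t, t ∉ x' ∧ t * (ι w - algebraMap s.C _ c) = 0
  have huniq : ∀ {w c c'}, rel w c → rel w c' → c = c' := fun {w c c'} ⟨t, ht, htw⟩ ⟨t', ht', htw'⟩ => by
    obtain ⟨u, hu, huc⟩ := hdown (algebraMap s.C _ (c' - c)) (t * t') (Ideal.IsPrime.mul_notMem inferInstance ht ht') (by
      rw [AlgHom.commutes, map_sub]
      linear_combination t' * htw - t * htw')
    have h0 : algebraMap s.C (s.C ⊗[B₀] B) (c' - c) = 0 := eq_zero_of_annihilator _ fun n hn => by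
      haveI := hn
      haveI : b'.IsPrime := inferInstance
      have hnC : n.comap (algebraMap s.C (s.C ⊗[B₀] B)) = maximalIdeal s.C :=
        eq_maximalIdeal (Ideal.isMaximal_comap_of_isIntegral_of_isMaximal (R := s.C) n)
      obtain ⟨g, hg⟩ := Algebra.IsInvariant.exists_smul_of_under_eq s.C (s.C ⊗[B₀] B) G b' n
        (hbC.trans hnC.symm)
      refine ⟨g • u, fun h => hu ?_, ?_⟩
      · rw [hg] at h
        exact Ideal.smul_mem_pointwise_smul_iff.1 h
      · rw [← smul_algebraMap g (c' - c), ← smul_mul', huc, smul_zero]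
    exact (sub_eq_zero.1 (hCinj (h0.trans (map_zero _).symm))).symm
  have hex : ∀ w, ∃ c, rel w c := fun w => by
    -- lift to `B'`
    obtain ⟨μ, hμ⟩ := hbij.2 (algebraMap (s.C ⊗[B₀] A) (Localization.AtPrime x') (ι w))
    obtain ⟨β₀, σ, rfl⟩ := IsLocalization.exists_mk'_eq b'.primeCompl μ
    obtain ⟨v, hv⟩ : IsUnit (σ.1 * e + (1 - e)) := by
      by_contra hnu
      obtain ⟨n, hn, hmem⟩ := exists_max_ideal_of_mem_nonunits hnu
      by_cases hnb : n = b'
      · subst hnb
        have h1e : (1 : s.C ⊗[B₀] B) - e ∈ b' :=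
          ((Ideal.IsPrime.mem_or_mem inferInstance) (show e * (1 - e) ∈ b' by
            rw [mul_sub, mul_one, he.eq, sub_self]; exact zero_mem _)).resolve_left heb
        exact Ideal.IsPrime.mul_notMem inferInstance σ.2 heb (by simpa using sub_mem hmem h1e)
      · exact hn.ne_top ((Ideal.eq_top_iff_one _).2 (by
          simpa using add_mem (sub_mem hmem (Ideal.mul_mem_left n σ.1 (hen n hn hnb))) (hen n hn hnb)))
    let β := β₀ * e * ((v⁻¹ : _ˣ) : s.C ⊗[B₀] B)
    have he1 : algebraMap (s.C ⊗[B₀] B) (Localization.AtPrime b') e = 1 :=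
      (IsIdempotentElem.iff_eq_one_of_isUnit (IsLocalization.map_units _ (⟨e, heb⟩ : b'.primeCompl))).1 (he.map _)
    have hβ : algebraMap (s.C ⊗[B₀] B) (Localization.AtPrime b') β = IsLocalization.mk' _ β₀ σ := by
      rw [IsLocalization.eq_mk'_iff_mul_eq]
      have h1 : algebraMap (s.C ⊗[B₀] B) (Localization.AtPrime b') (v : s.C ⊗[B₀] B) =
          algebraMap (s.C ⊗[B₀] B) (Localization.AtPrime b') σ.1 := by
        rw [hv, map_add, map_mul, map_sub, he1, map_one, mul_one, sub_self, add_zero]
      simp only [β, map_mul, he1, mul_one]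
      rw [mul_assoc, ← h1, ← map_mul, Units.inv_mul, map_one, mul_one]
    obtain ⟨t, ht⟩ := (IsLocalization.eq_iff_exists x'.primeCompl (Localization.AtPrime x')).1
      (show algebraMap _ (Localization.AtPrime x') (α β) = algebraMap _ _ (ι w) by
        rw [← hlocmap, hβ]; exact hμ)
    have hee : e * β = β := by
      simp only [β]
      linear_combination (β₀ * ((v⁻¹ : _ˣ) : s.C ⊗[B₀] B)) * he.eq
    have hfix : ∀ g ∈ H, g • β = β := fun g hg => by
      obtain ⟨u, hu, hu0⟩ := hdown (g • β - β) (t.1 * (g • t.1))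
        (Ideal.IsPrime.mul_notMem inferInstance t.2 (hgx' g hg _ t.2)) (by
          have h2 := congrArg (g • ·) ht
          simp only [smul_mul', hιG, ← hαG] at h2
          rw [map_sub]
          linear_combination t.1 * h2 - (g • t.1) * ht)
      have hge : g • e = e := by
        refine sub_eq_zero.1 (eq_zero_of_annihilator _ fun n hn => ?_)
        haveI := hn
        by_cases hnb : n = b'
        · subst hnb
          refine ⟨e * (g • e), Ideal.IsPrime.mul_notMem inferInstance heb fun h => heb ((hg e).1 h), ?_⟩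
          have h3 : (g • e) * (g • e) = g • e := by rw [← smul_mul', he.eq]
          linear_combination e * h3 - (g • e) * he.eq
        · have hgn : (n.comap (MulSemiringAction.toRingHom G (s.C ⊗[B₀] B) g)) ≠ b' := fun h => hnb (Ideal.ext fun β => by
            rw [← smul_inv_smul g β, hg, ← h]
            rfl)
          have h4 : g • e ∈ n := hen _ (Ideal.comap_isMaximal_of_surjective _ fun β => ⟨g⁻¹ • β, smul_inv_smul g β⟩) hgn
          refine ⟨(1 - e) * (1 - g • e), fun h => ?_, ?_⟩
          · rcases (Ideal.IsPrime.mem_or_mem inferInstance h) with h | h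
            · exact hn.ne_top ((Ideal.eq_top_iff_one _).2 (by simpa using add_mem h (hen n hn hnb)))
            · exact hn.ne_top ((Ideal.eq_top_iff_one _).2 (by simpa using add_mem h h4))
          · have h3 : (g • e) * (g • e) = g • e := by rw [← smul_mul', he.eq]
            linear_combination (1 - g • e) * he.eq - (1 - e) * h3
      refine sub_eq_zero.1 (eq_zero_of_annihilator _ fun n hn => ?_)
      by_cases hnb : n = b'
      · subst hnb; exact ⟨u, hu, hu0⟩
      · refine ⟨1 - e, fun h => hn.ne_top ((Ideal.eq_top_iff_one _).2 (by simpa using add_mem h (hen n hn hnb))), ?_⟩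
        have h5 : e * (g • β) = g • β := by
          calc e * (g • β) = (g • e) * (g • β) := by rw [hge]
            _ = g • β := by rw [← smul_mul', hee]
        linear_combination hee - h5
    let act : G →* (s.C ⊗[B₀] B →ₐ[s.C] s.C ⊗[B₀] B) :=
      { toFun := fun g => MulSemiringAction.toAlgHom s.C _ g
        map_one' := AlgHom.ext fun z => one_smul G z
        map_mul' := fun g h => AlgHom.ext fun z => mul_smul g h z }
    have hmem : β ∈ SymProdLib.fixed act H := fun g => hfix g.1 g.2
    obtain ⟨c, hc⟩ := Algebra.IsInvariant.isInvariant (A := s.C) (G := G) (SymProdLib.trace act H β)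
      fun g => SymProdLib.trace_mem act H hmem ⟨g, trivial⟩
    have hbr : algebraMap (s.C ⊗[B₀] B) (Localization.AtPrime b') (SymProdLib.trace act H β) =
        algebraMap (s.C ⊗[B₀] B) (Localization.AtPrime b') β := by
      rw [SymProdLib.trace, map_sum, Finset.sum_eq_single (QuotientGroup.mk 1 : G ⧸ H)]
      · rw [SymProdLib.act_out act H hmem 1, map_one]; rfl
      · intro q _ hq
        have hout : q.out ∉ H := fun h => hq (by
          rw [← QuotientGroup.out_eq' q]
          exact QuotientGroup.eq.2 (by simpa using H.inv_mem h))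
        have h2 : algebraMap (s.C ⊗[B₀] B) (Localization.AtPrime b') (q.out • e) = 0 := by
          have h1e : (1 : s.C ⊗[B₀] B) - q.out • e ∉ b' := fun h =>
            (Ideal.IsMaximal.ne_top ‹b'.IsMaximal›) ((Ideal.eq_top_iff_one _).2 (by simpa using add_mem h (heg _ hout)))
          refine (IsLocalization.map_eq_zero_iff b'.primeCompl _ _).2 ⟨⟨_, h1e⟩, ?_⟩
          rw [sub_mul, one_mul, ← smul_mul', he.eq, sub_self]
        change algebraMap _ _ (q.out • β) = 0
        rw [← hee, smul_mul', map_mul, h2, zero_mul]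
      · simp
    refine ⟨c, ?_⟩
    have h6 : algebraMap (s.C ⊗[B₀] A) (Localization.AtPrime x') (ι w) =
        algebraMap _ _ (algebraMap s.C (s.C ⊗[B₀] A) c) := by
      rw [← hμ, ← hβ, ← hbr, ← hc]
      exact (hlocmap _).trans (congrArg _ (α.commutes c))
    obtain ⟨t₁, ht₁⟩ := (IsLocalization.eq_iff_exists x'.primeCompl (Localization.AtPrime x')).1 h6
    exact ⟨t₁.1, t₁.2, by rw [mul_sub, ht₁, sub_self]⟩
  choose r₀ hr₀ using hex
  have hrel_alg : ∀ c, rel (algebraMap s.C _ c) c := fun c =>
    ⟨1, fun h => (Ideal.IsPrime.ne_top (inferInstanceAs x'.IsPrime)) ((Ideal.eq_top_iff_one _).2 h),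
      by rw [AlgHom.commutes, sub_self, mul_zero]⟩
  have hrel_add : ∀ {w w' c c'}, rel w c → rel w' c' → rel (w + w') (c + c') :=
    fun ⟨t, ht, h⟩ ⟨t', ht', h'⟩ => ⟨t * t', Ideal.IsPrime.mul_notMem inferInstance ht ht', by
      rw [map_add, map_add]; linear_combination t' * h + t * h'⟩
  have hrel_mul : ∀ {w w' c c'}, rel w c → rel w' c' → rel (w * w') (c * c') :=
    fun {w w' c c'} ⟨t, ht, h⟩ ⟨t', ht', h'⟩ => ⟨t * t', Ideal.IsPrime.mul_notMem inferInstance ht ht', by
      rw [map_mul, map_mul]; linear_combination (t' * ι w') * h + (t * algebraMap s.C _ c) * h'⟩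
  let r : s.C ⊗[B₀] A₀ →ₐ[s.C] s.C :=
    { toFun := r₀
      map_one' := huniq (hr₀ 1) (by simpa only [map_one] using hrel_alg 1)
      map_mul' := fun a b => huniq (hr₀ _) (hrel_mul (hr₀ a) (hr₀ b))
      map_zero' := huniq (hr₀ 0) (by simpa only [map_zero] using hrel_alg 0)
      map_add' := fun a b => huniq (hr₀ _) (hrel_add (hr₀ a) (hr₀ b))
      commutes' := fun c => huniq (hr₀ _) (hrel_alg c) }
  have hpt : ∀ w, s.pt (r w) = ev (ι w) := fun w => by
    obtain ⟨t, ht, h⟩ := hr₀ w
    have h' := congrArg ev h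
    rw [map_mul, map_sub, AlgHom.commutes, map_zero] at h'
    exact (sub_eq_zero.1 ((mul_eq_zero.1 h').resolve_left ht)).symm
  refine ⟨r, fun a => by rw [hpt]; simp [ι, ev], fun z => ?_⟩
  obtain ⟨t, ht, h⟩ := hr₀ z
  obtain ⟨n, hn, hnx, hnd⟩ := exists_invariant_annihilator G x' (ι z - algebraMap s.C _ (r₀ z))
    (fun g => by rw [smul_sub, hιG, smul_algebraMap]) t ht h
  obtain ⟨n₀, hn₀⟩ := exists_of_invariant G (A₀ := A₀) s.C n hn
  subst hn₀
  refine ⟨n₀, ?_, hι ?_⟩
  · rw [← notMem_maximalIdeal, ← s.ker_pt]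
    exact fun h0 => hnx ((hpt n₀).symm.trans h0)
  · rw [map_mul, map_sub, AlgHom.commutes, map_zero]
    exact hnd

/-- Etaleness descends to the invariants at points with equal inertia groups. -/
theorem isEtaleAt_invariants (hGeq : ∀ (g : G) (b : B), algebraMap B A (g • b) = g • algebraMap B A b)
    (hB : Function.Injective (algebraMap B₀ B)) (hA : Function.Injective (algebraMap A₀ A))
    [Module.Finite B₀ B] [Algebra.FinitePresentation B A] [Algebra.FinitePresentation B₀ A₀]
    (x : Ideal A) [x.IsPrime] [Algebra.IsEtaleAt B x]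
    (hin : x.inertia G = (x.comap (algebraMap B A)).inertia G) :
    Algebra.IsEtaleAt B₀ (x.comap (algebraMap A₀ A)) := by
  classical
  let Ω := AlgebraicClosure x.ResidueField
  haveI : IsScalarTower B₀ A Ω := inferInstance
  obtain ⟨s⟩ := exists_strictPt B₀ Ω
  have hx : ∀ a, a ∈ x ↔ algebraMap A Ω a = 0 := fun a => by
    rw [IsScalarTower.algebraMap_apply A x.ResidueField Ω, map_eq_zero, Ideal.algebraMap_residueField_eq_zero]
  obtain ⟨r, hrpt, hr⟩ := exists_retraction G hGeq hB hA s x hx hin
  let y := x.comap (algebraMap A₀ A)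
  let T := Localization.AtPrime y
  let inc : A₀ →ₐ[B₀] s.C := (r.restrictScalars B₀).comp Algebra.TensorProduct.includeRight
  have hunit : ∀ t : y.primeCompl, IsUnit (inc t.1) := fun t => by
    rw [← notMem_maximalIdeal, ← s.ker_pt]
    intro h
    refine t.2 ((hx _).2 ?_)
    rw [← hrpt t.1]
    exact h
  let χ : T →ₐ[B₀] s.C := IsLocalization.liftAlgHom (M := y.primeCompl) (f := inc) hunit
  have hχ : ∀ a, χ (algebraMap A₀ T a) = r (1 ⊗ₜ a) := fun a => IsLocalization.lift_eq hunit a
  letI : Algebra T s.C := χ.toRingHom.toAlgebra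
  haveI : IsScalarTower B₀ T s.C := IsScalarTower.of_algebraMap_eq fun b => (χ.commutes b).symm
  haveI : IsLocalHom (algebraMap T s.C) := ⟨fun w hw => by
    obtain ⟨a, t, rfl⟩ := IsLocalization.exists_mk'_eq y.primeCompl w
    refine (IsLocalization.AtPrime.isUnit_mk'_iff T y a t).2 fun ha => ?_
    have h2 : IsUnit (χ (IsLocalization.mk' T a t * algebraMap A₀ T t.1)) := by
      rw [map_mul]
      exact hw.mul (by rw [hχ]; exact hunit t)
    rw [IsLocalization.mk'_spec, hχ] at h2
    refine (notMem_maximalIdeal.2 h2) ?_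
    rw [← s.ker_pt]
    exact (hrpt a).trans ((hx _).1 ha)⟩
  have hinc : inc.toRingHom.Flat := by
    have h1 : (Algebra.TensorProduct.includeRight : A₀ →ₐ[B₀] s.C ⊗[B₀] A₀).toRingHom.Flat := by
      letI : Algebra A₀ (s.C ⊗[B₀] A₀) := Algebra.TensorProduct.rightAlgebra
      haveI : Algebra.IsPushout B₀ A₀ s.C (s.C ⊗[B₀] A₀) := inferInstance
      have : Module.Flat A₀ (s.C ⊗[B₀] A₀) :=
        Module.Flat.of_linearEquiv (Algebra.IsPushout.equiv B₀ A₀ s.C (s.C ⊗[B₀] A₀)).symm.toLinearEquiv
      exact RingHom.flat_algebraMap_iff.2 this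
    have h2 : r.toRingHom.Flat := by
      letI : Algebra (s.C ⊗[B₀] A₀) s.C := r.toRingHom.toAlgebra
      let Su : Submonoid (s.C ⊗[B₀] A₀) := (IsUnit.submonoid s.C).comap r
      haveI : IsLocalization Su s.C :=
        { map_units := fun u => u.2
          surj := fun c => ⟨(algebraMap s.C _ c, 1), by
            change c * r 1 = r (algebraMap s.C _ c)
            rw [map_one, mul_one, AlgHom.commutes]
            rfl⟩
          exists_of_eq := fun {u v} h => by
            obtain ⟨t₁, ht₁, h₁⟩ := hr u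
            obtain ⟨t₂, ht₂, h₂⟩ := hr v
            refine ⟨⟨t₁ * t₂, show IsUnit (r (t₁ * t₂)) by rw [map_mul]; exact ht₁.mul ht₂⟩, ?_⟩
            change r u = r v at h
            rw [h] at h₁
            change t₁ * t₂ * u = t₁ * t₂ * v
            linear_combination t₂ * h₁ - t₁ * h₂ }
      exact RingHom.flat_algebraMap_iff.2 (IsLocalization.flat s.C Su)
    exact RingHom.Flat.comp h1 h2
  haveI : Module.Flat T s.C := by
    letI : Algebra A₀ s.C := inc.toRingHom.toAlgebra
    haveI : IsScalarTower A₀ T s.C := IsScalarTower.of_algebraMap_eq fun a => (hχ a).symm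
    haveI : Module.Flat A₀ s.C := hinc
    exact (Module.flat_iff_of_isLocalization T y.primeCompl s.C).2 inferInstance
  haveI : Module.FaithfullyFlat T s.C := Module.FaithfullyFlat.of_flat_of_isLocalHom
  haveI : Algebra.EssFiniteType B₀ T :=
    haveI : Algebra.EssFiniteType A₀ T := Algebra.EssFiniteType.of_isLocalization T y.primeCompl
    Algebra.EssFiniteType.comp B₀ A₀ T
  haveI : Algebra.IsUnramifiedAt B₀ y := by
    let M := Ω[T⁄B₀]
    letI : Algebra (s.C ⊗[B₀] A₀) s.C := r.toRingHom.toAlgebra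
    let N := s.C ⊗[T] M
    letI : Module (s.C ⊗[B₀] A₀) N := Module.compHom N r.toRingHom
    letI : Module A₀ N := Module.compHom N inc.toRingHom
    let φ : A₀ →ₗ[B₀] N :=
      ((TensorProduct.mk T s.C M 1).restrictScalars B₀).comp
        ((KaehlerDifferential.D B₀ T).toLinearMap.comp (IsScalarTower.toAlgHom B₀ A₀ T).toLinearMap)
    let D' : s.C ⊗[B₀] A₀ →ₗ[B₀] N :=
      TensorProduct.lift (LinearMap.mk₂ B₀ (fun c a => c • φ a) (fun c c' a => add_smul c c' _)
        (fun b c a => smul_assoc b c _) (fun c a a' => by rw [map_add, smul_add])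
        (fun b c a => by rw [map_smul, smul_comm]))
    have hD' : ∀ c a, D' (c ⊗ₜ a) = c • φ a := fun c a => rfl
    have hφ' : ∀ a, φ a = (1 : s.C) ⊗ₜ[T] KaehlerDifferential.D B₀ T (algebraMap A₀ T a) := fun a => rfl
    have hsm : ∀ (w : T) (m : M), (1 : s.C) ⊗ₜ[T] (w • m) = χ w • ((1 : s.C) ⊗ₜ[T] m) := fun w m => by
      rw [TensorProduct.tmul_smul]
      exact (algebraMap_smul s.C w _).symm
    have hφ : ∀ a a', φ (a * a') = inc a • φ a' + inc a' • φ a := fun a a' => by
      simp only [hφ', map_mul, Derivation.leibniz, TensorProduct.tmul_add, hsm, hχ]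
      rfl
    have hrt : ∀ c a, r (c ⊗ₜ a) = c * inc a := fun c a => by
      rw [show (c ⊗ₜ[B₀] a : s.C ⊗[B₀] A₀) = algebraMap s.C _ c * (1 ⊗ₜ a) by simp, map_mul, AlgHom.commutes]
      rfl
    have hleib : ∀ u v, D' (u * v) = r u • D' v + r v • D' u := fun u v => by
      induction u with
      | zero => simp
      | tmul c a =>
        induction v with
        | zero => simp
        | tmul c' a' =>
          rw [Algebra.TensorProduct.tmul_mul_tmul, hD', hD', hD', hrt, hrt, hφ, smul_add, smul_smul, smul_smul,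
            smul_smul, smul_smul]
          congr 2 <;> ring
        | add v v' hv hv' => simp only [mul_add, map_add, hv, hv', add_smul, smul_add]; abel
      | add u u' hu hu' => simp only [add_mul, map_add, hu, hu', add_smul, smul_add]; abel
    have hC0 : ∀ c, D' (algebraMap s.C _ c) = 0 := fun c => by
      have h1 : φ 1 = 0 := by
        have := hφ 1 1
        rw [mul_one, show inc 1 = 1 from map_one inc, one_smul] at this
        exact left_eq_add.1 this
      rw [Algebra.TensorProduct.algebraMap_apply, hD', h1, smul_zero]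
    have h0 : ∀ z, D' z = 0 := fun z => by
      obtain ⟨t, ht, h⟩ := hr z
      have h' := congrArg D' h
      rw [hleib, map_zero, map_sub, map_sub, hC0, AlgHom.commutes, sub_zero] at h'
      simp only [Algebra.algebraMap_self, RingHom.id_apply, sub_self, zero_smul, add_zero] at h'
      exact ht.smul_eq_zero.1 h'
    refine ⟨⟨fun m m' => ?_⟩⟩
    have hzero : ∀ m : M, m = 0 := fun m => by
      have hm : m ∈ Submodule.span T (Set.range (KaehlerDifferential.D B₀ T)) := by
        rw [KaehlerDifferential.span_range_derivation]; trivial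
      induction hm using Submodule.span_induction with
      | mem m hm =>
        obtain ⟨w, rfl⟩ := hm
        obtain ⟨a, t, rfl⟩ := IsLocalization.exists_mk'_eq y.primeCompl w
        have hDA : ∀ a : A₀, KaehlerDifferential.D B₀ T (algebraMap A₀ T a) = 0 := fun a => by
          apply Module.FaithfullyFlat.tensorProduct_mk_injective (A := T) (B := s.C) M
          rw [map_zero]
          have := h0 (1 ⊗ₜ a)
          rwa [hD', one_smul] at this
        have h2 := congrArg (KaehlerDifferential.D B₀ T) (IsLocalization.mk'_spec T a t)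
        rw [Derivation.leibniz, hDA, hDA, smul_zero, zero_add] at h2
        exact (IsLocalization.map_units T t).smul_eq_zero.1 h2
      | zero => rfl
      | add m m' _ _ hm hm' => rw [hm, hm', add_zero]
      | smul c m _ hm => rw [hm, smul_zero]
    rw [hzero m, hzero m']
  haveI : Module.Flat B₀ T := by
    exact QuotScheme.flat_of_faithfullyFlat_tower B₀ T s.C
  exact EGA418Dim.isEtaleAt_of_flat_of_unramified y

end Groth.Agent.InvEtale
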